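import Groth.Agent.FpqcSheaf.Affine

/-!
# Maps to algebraic spaces descend along flat quasi-compact surjective maps of schemes
-/

universe u

open CategoryTheory CategoryTheory.Limits AlgebraicGeometry Opposite

set_option backward.isDefEq.respectTransparency false

namespace Groth.Agent.FpqcSheaf

open _root_.AlgSp Groth.Agent.AlgSpLib

variable {S : Scheme.{u}}

/-- maps out of a coproduct agree if they agree on the pieces, relative version -/
theorem hom_ext_pieces {X : Sp S} {ι : Type u} {W : ι → Scheme.{u}} {f : ∀ k, W k ⟶ S} {R : Over S}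
    (x : R ⟶ Over.mk (Sigma.desc f)) {a b : (yon S).obj R ⟶ X}
    (h : ∀ (k : ι) (R' : Over S) (e : R' ⟶ R) (x' : R' ⟶ Over.mk (f k)),
      e ≫ x = x' ≫ sigmaInj f k → (yon S).map e ≫ a = (yon S).map e ≫ b) : a = b := by
  let 𝒰 := (sigmaOpenCover W).pullback₁ x.left
  refine AlgSpLib.hom_ext_cover (R := Presieve.ofArrows 𝒰.X 𝒰.f)
    (Scheme.zariskiPrecoverage_le_fppfPrecoverage _ 𝒰.mem₀) ?_
  rintro _ _ ⟨k⟩
  refine h k _ _ (Over.homMk (pullback.snd x.left (Sigma.ι W k)) ?_) (Over.OverMorphism.ext pullback.condition)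
  show _ ≫ f k = pullback.fst x.left (Sigma.ι W k) ≫ R.hom
  rw [← Over.w x]
  exact ((congrArg (_ ≫ ·) (Sigma.ι_desc f k).symm).trans (pullback.condition_assoc _).symm)

/-- maps to a space descend along a flat quasi-compact surjective map -/
theorem exists_desc_flat {X : Sp S} (hX : IsAlgSpace X) {T T' : Over S} (c : T' ⟶ T) [Flat c.left]
    [Surjective c.left] [QuasiCompact c.left] (a : (yon S).obj T' ⟶ X)
    (ha : ∀ ⦃W : Over S⦄ (x y : W ⟶ T'), x ≫ c = y ≫ c → (yon S).map x ≫ a = (yon S).map y ≫ a) :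
    ∃ b : (yon S).obj T ⟶ X, (yon S).map c ≫ b = a := by
  obtain ⟨U, p, ι, O, hpe, hps, hO, -, hOcov⟩ := exists_affine_chart_family hX
  let Uk : ι → Over S := fun k => Over.mk ((O k).ι ≫ U.hom)
  let ik : ∀ k, Uk k ⟶ U := fun k => Over.homMk (O k).ι rfl
  have hpk : ∀ k, RepWith @Etale ((yon S).map (ik k) ≫ p) := fun k =>
    repWith_comp ((repWith_yon_iff _).2 (show Etale (O k).ι from inferInstance)) hpe
  have : ∀ k, IsAffine (Uk k).left := fun k => (hO k : IsAffine (O k).toScheme)
  choose W V w g v ξ hg hw hgξ hsurj using fun k => exists_descended_piece hX c a ha _ (hpk k)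
  obtain ⟨Ξ, hΞ⟩ := exists_sigma_hom (fun k => (W k).hom) ξ
  let WW : Over S := Over.mk (Sigma.desc fun k => (W k).hom)
  let ww : WW ⟶ T := Over.homMk (Sigma.desc fun k => (w k).left) (by
    refine Sigma.hom_ext _ _ fun k => ?_
    exact (Sigma.ι_desc_assoc _ _ _).trans ((Over.w (w k)).trans (Sigma.ι_desc (fun k => (W k).hom) k).symm))
  have hι : ∀ k, Sigma.ι (fun k => (W k).left) k ≫ ww.left = (w k).left := fun k => Sigma.ι_desc _ _
  have hwe : Etale ww.left :=
    (IsZariskiLocalAtSource.iff_of_openCover (P := @Etale) (sigmaOpenCover fun k => (W k).left)).2 fun k => by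
      rw [show (sigmaOpenCover fun k => (W k).left).f k = Sigma.ι (fun k => (W k).left) k from rfl, hι]
      exact hw k
  have hws : Surjective ww.left := ⟨fun t => by
    obtain ⟨t', rfl⟩ := c.left.surjective t
    obtain ⟨u, hu⟩ := ofPt_surjective hps (Points.ofPt a t')
    obtain ⟨k, hk⟩ := hOcov u
    obtain ⟨z, hz⟩ := hsurj k t' ⟨u, hk⟩ (by rw [ofPt_comp]; exact hu.symm)
    refine ⟨Sigma.ι (fun k => (W k).left) k ((g k).left z), ?_⟩
    exact (congr($(hι k) ((g k).left z))).trans ((congr($((hg k).w) z)).trans (congrArg c.left hz))⟩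
  have key : ∀ ⦃R : Over S⦄ (x : R ⟶ WW) (t : R ⟶ T'), x ≫ ww = t ≫ c →
      (yon S).map x ≫ Ξ = (yon S).map t ≫ a := fun R x t hxt => hom_ext_pieces x fun k R' e x' he => by
    have hw' : x' ≫ w k = (e ≫ t) ≫ c := by
      rw [Category.assoc, ← hxt, reassoc_of% he]
      congr 1
      exact Over.OverMorphism.ext (hι k).symm
    let l : R' ⟶ V k := Over.homMk ((hg k).lift x'.left (e ≫ t).left (congrArg (fun m => m.left) hw')) (by
      rw [← Over.w (v k), (hg k).lift_snd_assoc, Over.w (e ≫ t)])
    have hl₁ : l ≫ g k = x' := Over.OverMorphism.ext ((hg k).lift_fst _ _ _)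
    have hl₂ : l ≫ v k = e ≫ t := Over.OverMorphism.ext ((hg k).lift_snd _ _ _)
    rw [← Functor.map_comp_assoc, ← Functor.map_comp_assoc, he, Functor.map_comp, Category.assoc, hΞ, ← hl₁,
      Functor.map_comp, Category.assoc, hgξ, ← Functor.map_comp_assoc, hl₂]
  obtain ⟨b, hb⟩ := exists_desc ww Ξ fun R x y hxy => by
    let R' : Over S := Over.mk (pullback.fst (x ≫ ww).left c.left ≫ R.hom)
    let q : R' ⟶ R := Over.homMk (pullback.fst (x ≫ ww).left c.left) rfl
    let t : R' ⟶ T' := Over.homMk (pullback.snd (x ≫ ww).left c.left) (by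
      show _ ≫ T'.hom = pullback.fst (x ≫ ww).left c.left ≫ R.hom
      rw [← Over.w (x ≫ ww), ← Over.w c, pullback.condition_assoc])
    have : Flat q.left := inferInstanceAs (Flat (pullback.fst (x ≫ ww).left c.left))
    have : Surjective q.left := inferInstanceAs (Surjective (pullback.fst (x ≫ ww).left c.left))
    have : QuasiCompact q.left := inferInstanceAs (QuasiCompact (pullback.fst (x ≫ ww).left c.left))
    have hq : q ≫ x ≫ ww = t ≫ c := Over.OverMorphism.ext pullback.condition
    refine hom_ext_of_flat hX q ?_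
    rw [← Functor.map_comp_assoc, ← Functor.map_comp_assoc, key (q ≫ x) t (by rw [Category.assoc, hq]),
      key (q ≫ y) t (by rw [Category.assoc, ← hxy, hq])]
  refine ⟨b, ?_⟩
  let R : Over S := Over.mk (pullback.fst c.left ww.left ≫ T'.hom)
  let t : R ⟶ T' := Over.homMk (pullback.fst c.left ww.left) rfl
  let x : R ⟶ WW := Over.homMk (pullback.snd c.left ww.left) (by
    show _ ≫ WW.hom = pullback.fst c.left ww.left ≫ T'.hom
    rw [← Over.w ww, ← Over.w c, pullback.condition_assoc])
  have hxt : x ≫ ww = t ≫ c := Over.OverMorphism.ext pullback.condition.symm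
  have : Flat t.left := inferInstanceAs (Flat (pullback.fst c.left ww.left))
  have : Surjective t.left := inferInstanceAs (Surjective (pullback.fst c.left ww.left))
  have : LocallyOfFinitePresentation t.left :=
    inferInstanceAs (LocallyOfFinitePresentation (pullback.fst c.left ww.left))
  have := epi_yon_map t
  rw [← cancel_epi ((yon S).map t), ← key x t hxt, ← hb, ← Functor.map_comp_assoc, ← hxt, Functor.map_comp,
    Category.assoc]

end Groth.Agent.FpqcSheaf
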