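import Groth.Agent.AlgSpLib.RepDescent
import Groth.Agent.AlgSpLib.FpqcRep
import Groth.Agent.AlgSpLib.QCompact
import Groth.Agent.AlgSpLib.Presentation
import Mathlib.AlgebraicGeometry.Morphisms.Separated

/-!
# Algebraic spaces are fpqc sheaves: one covering morphism of schemes
-/

universe u

open CategoryTheory CategoryTheory.Limits AlgebraicGeometry Opposite

set_option backward.isDefEq.respectTransparency false

namespace Groth.Agent.FpqcSheaf

open _root_.AlgSp Groth.Agent.AlgSpLib RepDatum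

variable {S : Scheme.{u}}

/-- maps from schemes to a space agree if they do after a flat quasi-compact surjective map -/
theorem hom_ext_of_flat {X : Sp S} (hX : IsAlgSpace X) {T L : Over S} (c : L ⟶ T) [Flat c.left] [Surjective c.left]
    [QuasiCompact c.left] {a b : (yon S).obj T ⟶ X} (e : (yon S).map c ≫ a = (yon S).map c ≫ b) : a = b := by
  obtain ⟨R, p, q, sq⟩ := exists_pullback hX.diag a b
  obtain ⟨l, hl⟩ := exists_map_eq (sq.lift ((yon S).map c) ((yon S).map c) e)
  have hl₁ : l ≫ p = c := (yon S).map_injective (by rw [Functor.map_comp, hl, sq.lift_fst])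
  have hl₂ : l ≫ q = c := (yon S).map_injective (by rw [Functor.map_comp, hl, sq.lift_snd])
  obtain ⟨m₀, hm₀, -⟩ := SchDescent.existsUnique_glue_singleton c.left.singleton_mem_fpqcPrecoverage l.left (by
    let Z' : Over S := Over.mk (pullback.fst c.left c.left ≫ L.hom)
    let g₁ : Z' ⟶ L := Over.homMk (pullback.fst c.left c.left) rfl
    let g₂ : Z' ⟶ L := Over.homMk (pullback.snd c.left c.left) (by
      show _ ≫ L.hom = pullback.fst c.left c.left ≫ L.hom
      rw [← Over.w c, pullback.condition_assoc])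
    have hg : g₁ ≫ c = g₂ ≫ c := Over.OverMorphism.ext pullback.condition
    have : g₁ ≫ l = g₂ ≫ l := (yon S).map_injective (sq.hom_ext
      (by rw [← Functor.map_comp, ← Functor.map_comp, Category.assoc, Category.assoc, hl₁, hg])
      (by rw [← Functor.map_comp, ← Functor.map_comp, Category.assoc, Category.assoc, hl₂, hg]))
    exact congrArg (fun m => m.left) this)
  have := SchDescent.epi_of_mem c.left.singleton_mem_fpqcPrecoverage
  let m : T ⟶ R := Over.homMk m₀ (by rw [← cancel_epi c.left, reassoc_of% hm₀, Over.w l, Over.w c])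
  have hmp : m ≫ p = 𝟙 _ := Over.OverMorphism.ext (by
    rw [← cancel_epi c.left]
    show c.left ≫ m₀ ≫ p.left = c.left ≫ 𝟙 _
    rw [reassoc_of% hm₀, ← Over.comp_left, hl₁]
    exact (Category.comp_id _).symm)
  have hmq : m ≫ q = 𝟙 _ := Over.OverMorphism.ext (by
    rw [← cancel_epi c.left]
    show c.left ≫ m₀ ≫ q.left = c.left ≫ 𝟙 _
    rw [reassoc_of% hm₀, ← Over.comp_left, hl₂]
    exact (Category.comp_id _).symm)
  have := congrArg (fun z => (yon S).map m ≫ z) sq.w
  simpa [← Functor.map_comp_assoc, hmp, hmq] using this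

section piece

variable {X : Sp S} {T T' U P : Over S} (c : T' ⟶ T) (a : (yon S).obj T' ⟶ X) (p : (yon S).obj U ⟶ X)
  (pr₁ : P ⟶ T) (pr₂ : P ⟶ U)

/-- the pairs of a point of the base and a point of the chart which correspond over the covering -/
def compatPairs : Subfunctor ((yon S).obj P).obj where
  obj W := {r | ∀ ⦃W' : Over S⦄ (w : W' ⟶ W.unop) (s : W' ⟶ T'), w ≫ r.down ≫ pr₁ = s ≫ c →
    (yon S).map (w ≫ r.down ≫ pr₂) ≫ p = (yon S).map s ≫ a}
  map {W W₂} i := fun r hr W' w s hs => by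
    have := hr (w ≫ i.unop) s (by simpa using (show w ≫ (i.unop ≫ r.down) ≫ pr₁ = s ≫ c from hs))
    show (yon S).map (w ≫ (i.unop ≫ r.down) ≫ pr₂) ≫ p = _
    simpa using this

lemma isSheaf_compatPairs : Presheaf.IsSheaf (J S) (compatPairs c a p pr₁ pr₂).toFunctor := by
  rw [isSheaf_iff_isSheaf_of_type,
    (compatPairs c a p pr₁ pr₂).isSheaf_iff ((isSheaf_iff_isSheaf_of_type _ _).1 ((yon S).obj P).property)]
  intro W r hr W' w s hs
  apply (J S).uliftYonedaEquiv.injective
  refine (((isSheaf_iff_isSheaf_of_type _ _).1 X.property) _ ((J S).pullback_stable w hr)).isSeparatedFor.ext ?_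
  intro V i hi
  rw [GrothendieckTopology.uliftYonedaEquiv_naturality, GrothendieckTopology.uliftYonedaEquiv_naturality]
  congr 1
  have := hi (𝟙 V) (i ≫ s) (by
    show 𝟙 V ≫ ((i ≫ w) ≫ r.down) ≫ pr₁ = (i ≫ s) ≫ c
    simp [hs])
  change (yon S).map (𝟙 V ≫ ((i ≫ w) ≫ r.down) ≫ pr₂) ≫ p = _ at this
  simpa only [Category.id_comp, Category.assoc, Functor.map_comp] using this

/-- the sheaf of compatible pairs -/
noncomputable def pairSheaf : Sp S := ⟨(compatPairs c a p pr₁ pr₂).toFunctor, isSheaf_compatPairs c a p pr₁ pr₂⟩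

/-- its inclusion -/
noncomputable def pairInc : pairSheaf c a p pr₁ pr₂ ⟶ (yon S).obj P :=
  ObjectProperty.homMk (compatPairs c a p pr₁ pr₂).ι

lemma pairInc_cond {W : Over S} (ζ : (yon S).obj W ⟶ pairSheaf c a p pr₁ pr₂) {r : W ⟶ P}
    (hr : (yon S).map r = ζ ≫ pairInc c a p pr₁ pr₂) {W' : Over S} (w : W' ⟶ W) (s : W' ⟶ T')
    (hs : w ≫ r ≫ pr₁ = s ≫ c) : (yon S).map (w ≫ r ≫ pr₂) ≫ p = (yon S).map s ≫ a := by
  have hd : r = (((J S).uliftYonedaEquiv ζ).1).down := congrArg ULift.down
    ((show (⟨r⟩ : ((yon S).obj P).obj.obj (op W)) = (J S).uliftYonedaEquiv ((yon S).map r) from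
      ((J S).uliftYonedaEquiv_uliftYoneda_map r).symm).trans
    ((congrArg (J S).uliftYonedaEquiv hr).trans ((J S).uliftYonedaEquiv_comp ζ _)))
  subst hd
  exact ((J S).uliftYonedaEquiv ζ).2 w s hs

lemma exists_pairInc_lift {W : Over S} (r : W ⟶ P)
    (h : ∀ ⦃W' : Over S⦄ (w : W' ⟶ W) (s : W' ⟶ T'), w ≫ r ≫ pr₁ = s ≫ c →
      (yon S).map (w ≫ r ≫ pr₂) ≫ p = (yon S).map s ≫ a) :
    ∃ ζ : (yon S).obj W ⟶ pairSheaf c a p pr₁ pr₂, ζ ≫ pairInc c a p pr₁ pr₂ = (yon S).map r := by
  refine ⟨(J S).uliftYonedaEquiv.symm ⟨⟨r⟩, h⟩, (J S).uliftYonedaEquiv.injective ?_⟩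
  simp [pairInc, GrothendieckTopology.uliftYonedaEquiv_comp]
  rfl

instance : Mono (pairInc c a p pr₁ pr₂) := mono_of_points _ fun W x y e => by
  apply (J S).uliftYonedaEquiv.injective
  have := congrArg (J S).uliftYonedaEquiv e
  simp [pairInc, GrothendieckTopology.uliftYonedaEquiv_comp] at this
  exact Subtype.ext this

end piece

/-- an affine chart pulled back along a map from a cover descends to the base -/
theorem exists_descended_piece {X : Sp S} (hX : IsAlgSpace X) {T T' U : Over S} (c : T' ⟶ T) [Flat c.left]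
    [Surjective c.left] [QuasiCompact c.left] (a : (yon S).obj T' ⟶ X)
    (ha : ∀ ⦃W : Over S⦄ (x y : W ⟶ T'), x ≫ c = y ≫ c → (yon S).map x ≫ a = (yon S).map y ≫ a)
    [IsAffine U.left] (p : (yon S).obj U ⟶ X) (hp : RepWith @Etale p) :
    ∃ (W V : Over S) (w : W ⟶ T) (g : V ⟶ W) (v : V ⟶ T') (ξ : (yon S).obj W ⟶ X),
      IsPullback g.left v.left w.left c.left ∧ Etale w.left ∧ (yon S).map g ≫ ξ = (yon S).map v ≫ a ∧
      ∀ t u, Points.ofPt a t = Points.ofPt p u → ∃ z, v.left z = t := by
  obtain ⟨V, v, u, sqV⟩ := exists_pullback hX.diag a p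
  let P : Over S := Over.mk (pullback.fst T.hom U.hom ≫ T.hom)
  let pr₁ : P ⟶ T := Over.homMk (pullback.fst T.hom U.hom) rfl
  let pr₂ : P ⟶ U := Over.homMk (pullback.snd T.hom U.hom) pullback.condition.symm
  have lift_P : ∀ {W : Over S} (x : W ⟶ T) (y : W ⟶ U), ∃ r : W ⟶ P, r ≫ pr₁ = x ∧ r ≫ pr₂ = y := fun x y =>
    ⟨Over.homMk (pullback.lift x.left y.left (by rw [Over.w x, Over.w y])) (by
      show _ ≫ pullback.fst T.hom U.hom ≫ T.hom = _
      rw [pullback.lift_fst_assoc, Over.w x]),
      Over.OverMorphism.ext (pullback.lift_fst _ _ _), Over.OverMorphism.ext (pullback.lift_snd _ _ _)⟩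
  have P_ext : ∀ {W : Over S} {x y : W ⟶ P}, x ≫ pr₁ = y ≫ pr₁ → x ≫ pr₂ = y ≫ pr₂ → x = y := fun e₁ e₂ =>
    Over.OverMorphism.ext (pullback.hom_ext (congrArg (fun m => m.left) e₁) (congrArg (fun m => m.left) e₂))
  let Z := pairSheaf c a p pr₁ pr₂
  let π : Z ⟶ (yon S).obj T := pairInc c a p pr₁ pr₂ ≫ (yon S).map pr₁
  obtain ⟨rV, hrV₁, hrV₂⟩ := lift_P (v ≫ c) u
  obtain ⟨z, hz⟩ := exists_pairInc_lift c a p pr₁ pr₂ rV fun W' w s hs => by
    rw [hrV₁] at hs
    rw [hrV₂, Functor.map_comp, Category.assoc, ← sqV.w, ← Functor.map_comp_assoc]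
    exact ha (w ≫ v) s (by simpa using hs)
  have sq : IsPullback z ((yon S).map v) π ((yon S).map c) := by
    refine isPullback_of_points ?_ fun W ζ t e => ?_
    · simp only [π]
      rw [← Category.assoc, hz, ← Functor.map_comp, hrV₁, Functor.map_comp]
    · obtain ⟨t, rfl⟩ := exists_map_eq t
      obtain ⟨r, hr⟩ := exists_map_eq (ζ ≫ pairInc c a p pr₁ pr₂)
      have e' : r ≫ pr₁ = t ≫ c := (yon S).map_injective (by
        rw [Functor.map_comp, hr, Category.assoc]
        simpa [π] using e)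
      have hc := pairInc_cond c a p pr₁ pr₂ ζ hr (𝟙 W) t (by rw [Category.id_comp, e'])
      rw [Category.id_comp] at hc
      obtain ⟨l, hl⟩ := exists_map_eq (sqV.lift ((yon S).map t) ((yon S).map (r ≫ pr₂)) hc.symm)
      have hl₁ : l ≫ v = t := (yon S).map_injective (by rw [Functor.map_comp, hl, sqV.lift_fst])
      have hl₂ : l ≫ u = r ≫ pr₂ := (yon S).map_injective (by rw [Functor.map_comp, hl, sqV.lift_snd])
      refine ⟨(yon S).map l, ⟨?_, by rw [← Functor.map_comp, hl₁]⟩, fun m hm => ?_⟩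
      · rw [← cancel_mono (pairInc c a p pr₁ pr₂), Category.assoc, hz, ← hr, ← Functor.map_comp]
        congr 1
        refine P_ext ?_ ?_
        · rw [Category.assoc, hrV₁, reassoc_of% hl₁, e']
        · rw [Category.assoc, hrV₂, hl₂]
      · obtain ⟨m, rfl⟩ := exists_map_eq m
        congr 1
        apply (yon S).map_injective
        refine sqV.hom_ext (by rw [← Functor.map_comp, ← Functor.map_comp, hl₁]; exact (Functor.map_comp _ _ _).trans hm.2) ?_
        have h2 := congrArg (fun k => k ≫ pairInc c a p pr₁ pr₂ ≫ (yon S).map pr₂) hm.1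
        simp only [Category.assoc, reassoc_of% hz] at h2
        rw [← Functor.map_comp, ← Functor.map_comp, hl₂]
        rw [← reassoc_of% hr, ← Functor.map_comp, hrV₂, ← Functor.map_comp, ← Functor.map_comp] at h2
        exact congrArg _ ((yon S).map_injective h2)
  have hve : Etale v.left := hp.2 a _ v sqV.flip
  have : IsSeparated v.left := by
    let l := pullback.lift (f := T'.hom) (g := U.hom) v.left u.left (by rw [Over.w v, Over.w u])
    have hmono : Mono l := ⟨fun {W} x y e => by
      have e₁ : x ≫ v.left = y ≫ v.left := by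
        have := congrArg (fun k => k ≫ pullback.fst T'.hom U.hom) e
        simpa only [Category.assoc, l, pullback.lift_fst] using this
      have e₂ : x ≫ u.left = y ≫ u.left := by
        have := congrArg (fun k => k ≫ pullback.snd T'.hom U.hom) e
        simpa only [Category.assoc, l, pullback.lift_snd] using this
      let W' : Over S := Over.mk (x ≫ V.hom)
      let x' : W' ⟶ V := Over.homMk x rfl
      let y' : W' ⟶ V := Over.homMk y (by
        show y ≫ V.hom = x ≫ V.hom
        rw [← Over.w v, reassoc_of% e₁])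
      exact congrArg (fun m => m.left) ((yon S).map_injective (sqV.hom_ext
        (by rw [← Functor.map_comp, ← Functor.map_comp, show x' ≫ v = y' ≫ v from Over.OverMorphism.ext e₁])
        (by rw [← Functor.map_comp, ← Functor.map_comp, show x' ≫ u = y' ≫ u from Over.OverMorphism.ext e₂]) :
          (yon S).map x' = (yon S).map y'))⟩
    have : IsSeparated U.hom := inferInstance
    have : IsSeparated l := inferInstance
    rw [show v.left = l ≫ pullback.fst T'.hom U.hom from (pullback.lift_fst _ _ _).symm]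
    infer_instance
  have : LocallyQuasiFinite v.left := FpqcDescent.locallyQuasiFinite_of_etale v.left
  have hqa : MoreMor.IsIndQuasiAffineHom v.left := QA.IndQA.of_locallyQuasiFinite v.left
  have hpc : Presieve.ofArrows (fun _ : PUnit.{u + 1} => T'.left) (fun _ => c.left) ∈
      Scheme.fpqcPrecoverage T.left := SchDescent.mem_fpqc_singleton c.left.singleton_mem_fpqcPrecoverage
  obtain ⟨U₀, ⟨e'⟩⟩ := SchDescent.effective_of_indQA (fun _ : PUnit.{u + 1} => c.left) hpc
    ((Desc.SchDDFam.ofSchDD c.left).obj (datum sq)) (fun _ => hqa)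
  let e := (Desc.SchDDFam.toSchDD c.left).mapIso e'
  let el : pullback c.left U₀.hom ⟶ V.left := Over.Hom.left (Desc.SchDD.Hom.hom e.hom)
  let el' : V.left ⟶ pullback c.left U₀.hom := Over.Hom.left (Desc.SchDD.Hom.hom e.inv)
  have hel' : el' ≫ pullback.fst _ _ = v.left := Over.w e.inv.hom
  have hi : el ≫ el' = 𝟙 _ := congrArg
    (fun k : (Desc.toDD c.left).obj U₀ ⟶ (Desc.toDD c.left).obj U₀ => k.hom.left) e.hom_inv_id
  have hi' : el' ≫ el = 𝟙 _ := congrArg (fun k : datum sq ⟶ datum sq => k.hom.left) e.inv_hom_id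
  have : IsIso el' := ⟨el, hi', hi⟩
  let W : Over S := Over.mk (U₀.hom ≫ T.hom)
  let w : W ⟶ T := Over.homMk U₀.hom rfl
  let g : V ⟶ W := Over.homMk (el' ≫ pullback.snd _ _) (by
    show (el' ≫ pullback.snd _ _) ≫ U₀.hom ≫ T.hom = V.hom
    rw [Category.assoc, ← pullback.condition_assoc, reassoc_of% hel', Over.w c, Over.w v])
  have hg : IsPullback g.left v.left w.left c.left :=
    (IsPullback.of_iso_pullback ⟨by
      show v.left ≫ c.left = (el' ≫ pullback.snd _ _) ≫ U₀.hom
      rw [Category.assoc, ← pullback.condition, reassoc_of% hel']⟩ (asIso el') hel' rfl).flip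
  have compat : ∀ ⦃R : Over S⦄ (x y : R ⟶ V), x ≫ g = y ≫ g → (yon S).map x ≫ z = (yon S).map y ≫ z := by
    intro R x y hxy
    have hxy' : x.left ≫ el' ≫ pullback.snd _ _ = y.left ≫ el' ≫ pullback.snd _ _ :=
      congrArg (fun f : R ⟶ W => f.left) hxy
    have e0 : (x.left ≫ v.left) ≫ c.left = (y.left ≫ v.left) ≫ c.left := by
      have := congrArg (· ≫ U₀.hom) hxy'
      simpa only [Category.assoc, ← pullback.condition, reassoc_of% hel'] using this
    let a₁ : Desc.Lifts (Over.mk v.left) (x.left ≫ v.left) := ⟨x.left, rfl⟩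
    let a' : Desc.Lifts (Over.mk (pullback.fst c.left U₀.hom)) (x.left ≫ v.left) :=
      ⟨x.left ≫ el', (Category.assoc _ _ _).trans (congrArg (x.left ≫ ·) hel')⟩
    have hc : (Desc.canMap c.left U₀ _ _ e0 a').1 = (move sq _ _ e0 a₁).1 ≫ el' :=
      e.inv.comm (x.left ≫ v.left) (y.left ≫ v.left) e0 a₁ a' rfl
    have hq : (Desc.canMap c.left U₀ _ _ e0 a').1 = y.left ≫ el' := by
      apply pullback.hom_ext
      · rw [Category.assoc, hel']; exact pullback.lift_fst _ _ _
      · refine (pullback.lift_snd _ _ _).trans ?_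
        simp only [a', Category.assoc, hxy']
    have hm : (move sq _ _ e0 a₁).1 = y.left := (cancel_mono el').1 (hc.symm.trans hq)
    exact Same.map_eq (hm ▸ move_same sq _ _ e0 a₁)
  have : Flat g.left := MorphismProperty.of_isPullback (P := @Flat) hg.flip ‹Flat c.left›
  have : Surjective g.left := MorphismProperty.of_isPullback (P := @Surjective) hg.flip ‹_›
  have : QuasiCompact g.left := MorphismProperty.of_isPullback (P := @QuasiCompact) hg.flip ‹_›
  obtain ⟨k₀, hk₀, -⟩ := SchDescent.existsUnique_glue_singleton g.left.singleton_mem_fpqcPrecoverage u.left (by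
    let R : Over S := Over.mk (pullback.fst g.left g.left ≫ V.hom)
    let x : R ⟶ V := Over.homMk (pullback.fst g.left g.left) rfl
    let y : R ⟶ V := Over.homMk (pullback.snd g.left g.left) (by
      show _ ≫ V.hom = pullback.fst g.left g.left ≫ V.hom
      rw [← Over.w g, pullback.condition_assoc])
    have := congrArg (fun k => k ≫ pairInc c a p pr₁ pr₂ ≫ (yon S).map pr₂)
      (compat x y (Over.OverMorphism.ext pullback.condition))
    simp only [Category.assoc, reassoc_of% hz] at this
    rw [← Functor.map_comp, hrV₂, ← Functor.map_comp, ← Functor.map_comp] at this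
    exact congrArg (fun m => m.left) ((yon S).map_injective this))
  have := SchDescent.epi_of_mem g.left.singleton_mem_fpqcPrecoverage
  let k : W ⟶ U := Over.homMk k₀ (by rw [← cancel_epi g.left, reassoc_of% hk₀, Over.w u, Over.w g])
  have hk : g ≫ k = u := Over.OverMorphism.ext hk₀
  refine ⟨W, V, w, g, v, (yon S).map k ≫ p, hg, ?_, by rw [← Functor.map_comp_assoc, hk, sqV.w], fun t u' e => ?_⟩
  · exact MorphismProperty.of_isPullback_of_descendsAlong (P := @Etale)
      (Q := @Surjective ⊓ @Flat ⊓ @QuasiCompact) hg.flip ⟨⟨‹_›, ‹_›⟩, ‹_›⟩ hve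
  · obtain ⟨y, hy, -⟩ := (ofPt_eq_iff sqV t u').1 e
    exact ⟨y, hy⟩

end Groth.Agent.FpqcSheaf
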