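import Groth.Agent.FpqcSheaf.Desc

/-!
# Algebraic spaces are sheaves for fpqc coverings
-/

universe u

open CategoryTheory CategoryTheory.Limits AlgebraicGeometry Opposite

set_option backward.isDefEq.respectTransparency false

namespace Groth.Agent.FpqcSheaf

open _root_.AlgSp Groth.Agent.AlgSpLib

variable {S : Scheme.{u}} {ι : Type u} {T B : Sp S} {Ti : ι → Sp S} (g : ∀ i, Ti i ⟶ T) (bi : ∀ i, Ti i ⟶ B)

/-- a map from a scheme over `T` restricting to the given maps -/
def Compat {Z : Over S} (ζ : (yon S).obj Z ⟶ T) (β : (yon S).obj Z ⟶ B) : Prop :=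
  ∀ ⦃W : Over S⦄ (x : W ⟶ Z) (i : ι) (l : (yon S).obj W ⟶ Ti i), l ≫ g i = (yon S).map x ≫ ζ →
    (yon S).map x ≫ β = l ≫ bi i

variable {g bi}

lemma Compat.comp {Z Z' : Over S} {ζ : (yon S).obj Z ⟶ T} {β : (yon S).obj Z ⟶ B} (h : Compat g bi ζ β)
    (x : Z' ⟶ Z) : Compat g bi ((yon S).map x ≫ ζ) ((yon S).map x ≫ β) := fun W y i l e => by
  rw [← Functor.map_comp_assoc]
  exact h (y ≫ x) i l (by rw [Functor.map_comp, Category.assoc]; exact e)

/-- the finite disjoint union of the members of a covering of an affine scheme -/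
lemma exists_sigma_cover (hg : IsFpqcCover Ti g) {Z : Over S} [IsAffine Z.left] (ζ : (yon S).obj Z ⟶ T) :
    ∃ (κ : Type u) (W : κ → Over S) (cc : Over.mk (Sigma.desc fun j => (W j).hom) ⟶ Z) (i : κ → ι)
      (l : ∀ j, (yon S).obj (W j) ⟶ Ti (i j)), Flat cc.left ∧ Surjective cc.left ∧ QuasiCompact cc.left ∧
      ∀ j, l j ≫ g (i j) = (yon S).map (sigmaInj (fun j => (W j).hom) j ≫ cc) ≫ ζ := by
  obtain ⟨m, V, c, hV, hc, hcs, hl⟩ := hg.2 Z ‹_› ζ
  choose i l hl using hl
  let W : ULift.{u} (Fin m) → Over S := fun j => V j.down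
  let cc : Over.mk (Sigma.desc fun j => (W j).hom) ⟶ Z := Over.homMk (Sigma.desc fun j => (c j.down).left) (by
    refine Sigma.hom_ext _ _ fun j => ?_
    exact (Sigma.ι_desc_assoc _ _ _).trans ((Over.w (c j.down)).trans (Sigma.ι_desc (fun j => (W j).hom) j).symm))
  have hι : ∀ j, Sigma.ι (fun j => (W j).left) j ≫ cc.left = (c j.down).left := fun j => Sigma.ι_desc _ _
  have : ∀ j : ULift.{u} (Fin m), IsAffine (W j).left := fun j => hV j.down
  have : IsAffine (Over.mk (Sigma.desc fun j => (W j).hom)).left :=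
    inferInstanceAs (IsAffine (∐ fun j => (W j).left))
  refine ⟨_, W, cc, fun j => i j.down, fun j => l j.down, ?_, ⟨fun z => ?_⟩, inferInstance, fun j => ?_⟩
  · exact (IsZariskiLocalAtSource.iff_of_openCover (P := @Flat) (sigmaOpenCover fun j => (W j).left)).2 fun j => by
      rw [show (sigmaOpenCover fun j => (W j).left).f j = Sigma.ι (fun j => (W j).left) j from rfl, hι]
      exact hc j.down
  · obtain ⟨j, w, hw⟩ := hcs z
    exact ⟨Sigma.ι (fun j => (W j).left) ⟨j⟩ w, (congr($(hι (ULift.up j)) w)).trans hw⟩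
  · rw [hl, show sigmaInj (fun j => (W j).hom) j ≫ cc = c j.down from Over.OverMorphism.ext (hι j)]

theorem compat_unique (hB : IsAlgSpace B) (hg : IsFpqcCover Ti g) {Z : Over S} {ζ : (yon S).obj Z ⟶ T}
    {β β' : (yon S).obj Z ⟶ B} (h : Compat g bi ζ β) (h' : Compat g bi ζ β') : β = β' := by
  let 𝒰 := Z.left.affineCover
  refine AlgSpLib.hom_ext_cover (R := Presieve.ofArrows 𝒰.X 𝒰.f)
    (Scheme.zariskiPrecoverage_le_fppfPrecoverage _ 𝒰.mem₀) ?_
  rintro _ _ ⟨k⟩
  let Zk : Over S := Over.mk (𝒰.f k ≫ Z.hom)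
  let e : Zk ⟶ Z := Over.homMk (𝒰.f k) rfl
  have : IsAffine Zk.left := inferInstanceAs (IsAffine (Z.left.affineCover.X k))
  obtain ⟨κ, W, cc, i, l, hfl, hs, hqc, hl⟩ := exists_sigma_cover hg ((yon S).map e ≫ ζ)
  refine hom_ext_of_flat hB cc (hom_ext_pieces (𝟙 _) fun j R' e' x' he => ?_)
  rw [Category.comp_id] at he
  subst he
  have H : ∀ β₀, Compat g bi ζ β₀ → (yon S).map (sigmaInj (fun j => (W j).hom) j ≫ cc ≫ e) ≫ β₀ = l j ≫ bi (i j) :=
    fun β₀ h₀ => h₀ _ _ _ (by rw [hl]; simp only [Functor.map_comp, Category.assoc])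
  simp only [Functor.map_comp, Category.assoc] at H
  show (yon S).map _ ≫ (yon S).map cc ≫ (yon S).map e ≫ β = (yon S).map _ ≫ (yon S).map cc ≫ (yon S).map e ≫ β'
  simp only [Functor.map_comp, Category.assoc]
  rw [H β h, H β' h']

theorem exists_compat_affine (hB : IsAlgSpace B) (hg : IsFpqcCover Ti g)
    (hbi : ∀ i j, pullback.fst (g i) (g j) ≫ bi i = pullback.snd (g i) (g j) ≫ bi j)
    {Z : Over S} [IsAffine Z.left] (ζ : (yon S).obj Z ⟶ T) : ∃ β, Compat g bi ζ β := by
  obtain ⟨κ, W, cc, i, l, hfl, hs, hqc, hl⟩ := exists_sigma_cover hg ζ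
  obtain ⟨a, ha⟩ := exists_sigma_hom (fun j => (W j).hom) fun j => l j ≫ bi (i j)
  have key : ∀ ⦃R : Over S⦄ (x : R ⟶ Over.mk (Sigma.desc fun j => (W j).hom)) (i' : ι)
      (l' : (yon S).obj R ⟶ Ti i'), l' ≫ g i' = (yon S).map (x ≫ cc) ≫ ζ → (yon S).map x ≫ a = l' ≫ bi i' :=
    fun R x i' l' e => hom_ext_pieces x fun j R' e' x' he => by
      rw [← Functor.map_comp_assoc, he, Functor.map_comp, Category.assoc, ha, ← Category.assoc, ← Category.assoc]
      have e2 : ((yon S).map x' ≫ l j) ≫ g (i j) = ((yon S).map e' ≫ l') ≫ g i' := by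
        rw [Category.assoc, hl, Category.assoc, e, ← Functor.map_comp_assoc, ← Functor.map_comp_assoc,
          ← Category.assoc, ← Category.assoc e', he]
      have := congrArg (fun m => pullback.lift _ _ e2 ≫ m) (hbi (i j) i')
      simpa only [pullback.lift_fst_assoc, pullback.lift_snd_assoc] using this
  obtain ⟨β, hβ⟩ := exists_desc_flat hB cc a fun R x y hxy => hom_ext_pieces y fun j R' e' x' he => by
    rw [← Functor.map_comp_assoc, ← Functor.map_comp_assoc]
    have hl' : ((yon S).map x' ≫ l j) ≫ g (i j) = (yon S).map ((e' ≫ y) ≫ cc) ≫ ζ := by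
      rw [Category.assoc, hl, ← Functor.map_comp_assoc, ← Category.assoc, he]
    rw [key (e' ≫ y) (i j) _ hl', key (e' ≫ x) (i j) _ (hl'.trans (by simp only [Category.assoc, hxy]))]
  refine ⟨β, fun R x i' l' e => ?_⟩
  let L : Over S := Over.mk (Sigma.desc fun j => (W j).hom)
  let R' : Over S := Over.mk (pullback.fst x.left cc.left ≫ R.hom)
  let q : R' ⟶ R := Over.homMk (pullback.fst x.left cc.left) rfl
  let r : R' ⟶ L := Over.homMk (pullback.snd x.left cc.left) (by
    show _ ≫ L.hom = pullback.fst x.left cc.left ≫ R.hom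
    rw [← Over.w x, ← Over.w cc, pullback.condition_assoc])
  have : Flat q.left := inferInstanceAs (Flat (pullback.fst x.left cc.left))
  have : Surjective q.left := inferInstanceAs (Surjective (pullback.fst x.left cc.left))
  have : QuasiCompact q.left := inferInstanceAs (QuasiCompact (pullback.fst x.left cc.left))
  have hq : q ≫ x = r ≫ cc := Over.OverMorphism.ext pullback.condition
  refine hom_ext_of_flat hB q ?_
  rw [← Functor.map_comp_assoc, hq, Functor.map_comp, Category.assoc, hβ,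
    key r i' ((yon S).map q ≫ l') (by rw [Category.assoc, e, ← hq, Functor.map_comp, Category.assoc]), Category.assoc]

theorem exists_compat (hB : IsAlgSpace B) (hg : IsFpqcCover Ti g)
    (hbi : ∀ i j, pullback.fst (g i) (g j) ≫ bi i = pullback.snd (g i) (g j) ≫ bi j)
    {Z : Over S} (ζ : (yon S).obj Z ⟶ T) : ∃ β, Compat g bi ζ β := by
  let 𝒰 := Z.left.affineCover
  let Zk : 𝒰.I₀ → Over S := fun k => Over.mk (𝒰.f k ≫ Z.hom)
  have : ∀ k, IsAffine (Zk k).left := fun k => inferInstanceAs (IsAffine (Z.left.affineCover.X k))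
  choose βk hβk using fun k => exists_compat_affine hB hg hbi
    ((yon S).map (Over.homMk (𝒰.f k) rfl : Zk k ⟶ Z) ≫ ζ)
  obtain ⟨a, ha⟩ := exists_sigma_hom (fun k => 𝒰.f k ≫ Z.hom) βk
  let L : Over S := Over.mk (Sigma.desc fun k => 𝒰.f k ≫ Z.hom)
  let d : L ⟶ Z := Over.homMk (Sigma.desc fun k => 𝒰.f k)
    (by refine Sigma.hom_ext _ _ fun k => ?_; exact (Sigma.ι_desc_assoc _ _ _).trans (Sigma.ι_desc (fun k => 𝒰.f k ≫ Z.hom) k).symm)
  have hι : ∀ k, Sigma.ι 𝒰.X k ≫ d.left = 𝒰.f k := fun k => Sigma.ι_desc _ _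
  have : Flat d.left := (IsZariskiLocalAtSource.iff_of_openCover (P := @Flat) (sigmaOpenCover 𝒰.X)).2
    fun k => by rw [show (sigmaOpenCover 𝒰.X).f k = Sigma.ι 𝒰.X k from rfl, hι]; infer_instance
  have : LocallyOfFinitePresentation d.left :=
    (IsZariskiLocalAtSource.iff_of_openCover (P := @LocallyOfFinitePresentation) (sigmaOpenCover 𝒰.X)).2
      fun k => by rw [show (sigmaOpenCover 𝒰.X).f k = Sigma.ι 𝒰.X k from rfl, hι]; infer_instance
  have : Surjective d.left := ⟨fun x => by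
    obtain ⟨k, y, rfl⟩ := 𝒰.exists_eq x
    exact ⟨Sigma.ι 𝒰.X k y, congr($(hι k) y)⟩⟩
  have hd : ∀ k, sigmaInj (fun k => 𝒰.f k ≫ Z.hom) k ≫ d = (Over.homMk (𝒰.f k) rfl : Zk k ⟶ Z) :=
    fun k => Over.OverMorphism.ext (hι k)
  have hL : Compat g bi ((yon S).map d ≫ ζ) a := fun R x i l e => hom_ext_pieces x fun k R' e' x' he => by
    rw [← Functor.map_comp_assoc, he, Functor.map_comp, Category.assoc, ha, ← Category.assoc]
    refine hβk k x' i _ ?_
    rw [Category.assoc, e, ← Functor.map_comp_assoc, ← Functor.map_comp_assoc, ← Functor.map_comp_assoc,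
      ← hd, ← Category.assoc x', ← he, Category.assoc]
  obtain ⟨β, hβ⟩ := exists_desc d a fun R x y hxy =>
    compat_unique hB hg (ζ := (yon S).map (x ≫ d) ≫ ζ) (by rw [Functor.map_comp, Category.assoc]; exact hL.comp x)
      (by rw [hxy, Functor.map_comp, Category.assoc]; exact hL.comp y)
  refine ⟨β, fun R x i l e => ?_⟩
  let R' : Over S := Over.mk (pullback.fst x.left d.left ≫ R.hom)
  let q : R' ⟶ R := Over.homMk (pullback.fst x.left d.left) rfl
  let r : R' ⟶ L := Over.homMk (pullback.snd x.left d.left) (by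
    show _ ≫ L.hom = pullback.fst x.left d.left ≫ R.hom
    rw [← Over.w x, ← Over.w d, pullback.condition_assoc])
  have : Flat q.left := inferInstanceAs (Flat (pullback.fst x.left d.left))
  have : Surjective q.left := inferInstanceAs (Surjective (pullback.fst x.left d.left))
  have : LocallyOfFinitePresentation q.left :=
    inferInstanceAs (LocallyOfFinitePresentation (pullback.fst x.left d.left))
  have := epi_yon_map q
  have hq : q ≫ x = r ≫ d := Over.OverMorphism.ext pullback.condition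
  rw [← cancel_epi ((yon S).map q), ← Functor.map_comp_assoc, hq, Functor.map_comp, Category.assoc, hβ,
    hL r i ((yon S).map q ≫ l) (by rw [Category.assoc, e, ← Functor.map_comp_assoc, ← Functor.map_comp_assoc, hq]),
    Category.assoc]

/-- morphisms glue along fpqc coverings -/
theorem exists_glue (hT : IsAlgSpace T) (hTi : ∀ i, IsAlgSpace (Ti i)) (hB : IsAlgSpace B) (hg : IsFpqcCover Ti g)
    (hbi : ∀ i j, pullback.fst (g i) (g j) ≫ bi i = pullback.snd (g i) (g j) ≫ bi j) :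
    ∃ b : T ⟶ B, ∀ i, g i ≫ b = bi i := by
  obtain ⟨U, p, hpe, hps⟩ := hT.atlas
  obtain ⟨β, hβ⟩ := exists_compat hB hg hbi p
  obtain ⟨R, s, t, sq⟩ := exists_pullback hT.diag p p
  have : Sheaf.IsLocallySurjective p := isLocallySurjective_of_atlas hpe hps
  obtain ⟨hcol⟩ := isColimit_of_isPullback sq
  have hst : (yon S).map s ≫ β = (yon S).map t ≫ β :=
    compat_unique hB hg (hβ.comp s) (by rw [sq.w]; exact hβ.comp t)
  obtain ⟨b, hb⟩ : ∃ b : T ⟶ B, p ≫ b = β :=
    ⟨Cofork.IsColimit.desc hcol _ hst, Cofork.IsColimit.π_desc' hcol _ hst⟩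
  refine ⟨b, fun i => ?_⟩
  obtain ⟨V, q, hqe, hqs⟩ := (hTi i).atlas
  obtain ⟨W, w₁, w₂, sqW⟩ := exists_pullback hT.diag (q ≫ g i) p
  have : Etale w₁.left := hpe.2 (q ≫ g i) _ w₁ sqW.flip
  have : Surjective w₁.left := hps.2 (q ≫ g i) _ w₁ sqW.flip
  have := epi_yon_map w₁
  have : Sheaf.IsLocallySurjective q := isLocallySurjective_of_atlas hqe hqs
  have : Epi q := (Sheaf.isLocallySurjective_iff_epi _).1 this
  rw [← cancel_epi q, ← cancel_epi ((yon S).map w₁), reassoc_of% sqW.w, hb,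
    hβ w₂ i ((yon S).map w₁ ≫ q) (by rw [Category.assoc]; exact sqW.w), Category.assoc]

/-- morphisms are determined on the members of an fpqc covering -/
theorem hom_ext_of_cover (hT : IsAlgSpace T) (hB : IsAlgSpace B) (hg : IsFpqcCover Ti g) {a b : T ⟶ B}
    (h : ∀ i, g i ≫ a = g i ≫ b) : a = b := by
  obtain ⟨U, p, hpe, hps⟩ := hT.atlas
  have : Sheaf.IsLocallySurjective p := isLocallySurjective_of_atlas hpe hps
  have : Epi p := (Sheaf.isLocallySurjective_iff_epi _).1 this
  rw [← cancel_epi p]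
  refine compat_unique hB hg (bi := fun i => g i ≫ a) (ζ := p) (fun W x i l e => ?_) fun W x i l e => ?_
  · rw [← Category.assoc, ← Category.assoc, ← e]
  · show _ = l ≫ g i ≫ a
    rw [h, ← Category.assoc, ← Category.assoc, ← e]

end Groth.Agent.FpqcSheaf
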