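import Groth.Agent.FpqcSheaf.Desc
import Groth.Agent.AdeqLib.Total
import Mathlib.AlgebraicGeometry.Sites.SheafQuasiCompact
import Mathlib.AlgebraicGeometry.Sites.BigZariski

/-!
# Algebraic spaces are sheaves on the fpqc site
-/

set_option autoImplicit false

universe u

open CategoryTheory CategoryTheory.Limits AlgebraicGeometry Opposite

set_option backward.isDefEq.respectTransparency false

namespace Groth.Agent.FpqcSheaf

open _root_.AlgSp Groth.Agent.AlgSpLib

variable {S : Scheme.{u}}

theorem isSheafFor_singleton_flat {X : Sp S} (hX : IsAlgSpace X) {T T' : Over S} (c : T' ⟶ T) [Flat c.left]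
    [Surjective c.left] [QuasiCompact c.left] :
    Presieve.IsSheafFor X.obj (Presieve.singleton c) := by
  rw [Presieve.isSheafFor_singleton]
  intro x hx
  let a : (yon S).obj T' ⟶ X := (J S).uliftYonedaEquiv.{u+1}.symm x
  obtain ⟨b, hb⟩ := exists_desc_flat hX c a (fun W p q e => by
    rw [GrothendieckTopology.uliftYonedaEquiv_symm_naturality_left,
      GrothendieckTopology.uliftYonedaEquiv_symm_naturality_left, hx p q e])
  refine ⟨(J S).uliftYonedaEquiv.{u+1} b, ?_, fun y hy => ?_⟩
  · show X.obj.map c.op ((J S).uliftYonedaEquiv.{u+1} b) = x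
    rw [GrothendieckTopology.uliftYonedaEquiv_naturality, hb, Equiv.apply_symm_apply]
  · refine (J S).uliftYonedaEquiv.{u+1}.symm.injective ?_
    rw [Equiv.symm_apply_apply]
    refine hom_ext_of_flat hX c ?_
    rw [hb, GrothendieckTopology.uliftYonedaEquiv_symm_naturality_left]
    exact congrArg (J S).uliftYonedaEquiv.{u+1}.symm hy

theorem isSheaf_fpqc {X : Sp S} (hX : IsAlgSpace X) :
    Presheaf.IsSheaf (Scheme.fpqcTopology.over S) X.obj := by
  rw [isSheaf_iff_isSheaf_of_type]
  refine AdeqLib.isSheaf_of_total _ _ ?_
  rw [Scheme.fpqcTopology_eq_propQCTopology, isSheaf_type_propQCTopology_iff]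
  refine ⟨fun T R hR => ?_, fun {R B} f hf hs => ?_⟩
  · refine AdeqLib.isSheafFor_total _ R
      ((GrothendieckTopology.Subcanonical.isSheaf_of_isRepresentable (J := Scheme.zariskiTopology) _) R hR)
      fun t => (isSheaf_iff_isSheaf_of_type _ _).1 X.property _ ?_
    change _ ∈ (Scheme.fppfTopology.over S) (Over.mk t)
    exact GrothendieckTopology.overEquiv_symm_mem_over _ _ _
      (Precoverage.toGrothendieck_mono Scheme.zariskiPrecoverage_le_fppfPrecoverage _ hR)
  · have : Flat (Spec.map f) := hf
    rw [Presieve.isSheafFor_iff_generate]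
    refine AdeqLib.isSheafFor_total _ _ ?_ fun t => ?_
    · refine (GrothendieckTopology.Subcanonical.isSheaf_of_isRepresentable (J := Scheme.fpqcTopology) _) _ ?_
      exact Precoverage.generate_mem_toGrothendieck (Scheme.Hom.singleton_mem_fpqcPrecoverage _)
    · let T' : Over S := Over.mk (Spec.map f ≫ t)
      let c : T' ⟶ Over.mk t := Over.homMk (Spec.map f) rfl
      have e : (Sieve.overEquiv (Over.mk t)).symm (Sieve.generate (Presieve.singleton (Spec.map f))) =
          Sieve.generate (Presieve.singleton c) := by
        ext Z g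
        constructor
        · rintro ⟨_, h, _, ⟨⟩, hh⟩
          refine ⟨_, (Over.homMk (V := T') h ?_ : Z ⟶ T'), c, ⟨⟩, ?_⟩
          · change h ≫ Spec.map f ≫ t = Z.hom
            rw [← Category.assoc, hh]
            exact Over.w g
          · ext
            exact hh
        · rintro ⟨_, h, _, ⟨⟩, rfl⟩
          exact ⟨_, h.left, _, ⟨⟩, rfl⟩
      rw [e, ← Presieve.isSheafFor_iff_generate]
      have : Flat c.left := hf
      have : Surjective c.left := hs
      have : QuasiCompact c.left := by
        show QuasiCompact (Spec.map f)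
        infer_instance
      exact isSheafFor_singleton_flat hX c

end Groth.Agent.FpqcSheaf
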